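import Cfsg.Agent.H352.KS.Wt

/-!
# S4577, classical rows: the complement of the kernel in the preimage of `D` (helper390)
-/

set_option autoImplicit false

open Cfsg Cfsg.Agent.H613.KS Cfsg.Agent.H352.KS

namespace Cfsg.Agent.H390.KS

section ker

variable {R S : Type} [Ring R] [Group S] {σ : R →+ R} {I X : Subgroup Rˣ} {π : X →* S}

theorem ker_comm (hF : Frame σ I X π) {z : X} (hz : π z = 1) (g : X) : z * g = g * z := by
  apply Subtype.ext
  apply Units.ext
  change ((z : Rˣ) : R) * ((g : Rˣ) : R) = ((g : Rˣ) : R) * ((z : Rˣ) : R)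
  rcases hF.ker z hz with h | h
  · rw [h, one_mul, mul_one]
  · rw [h, neg_one_mul, mul_neg_one]

theorem ker_sq (hF : Frame σ I X π) {z : X} (hz : π z = 1) : z * z = 1 := by
  apply Subtype.ext
  apply Units.ext
  change ((z : Rˣ) : R) * ((z : Rˣ) : R) = 1
  rcases hF.ker z hz with h | h
  · rw [h, one_mul]
  · rw [h, neg_one_mul, neg_neg]

end ker

/-- `y` has no fixed points on `D` -/
theorem fix_eq_one {S : Type} [Group S] {D : Subgroup S} {x y : S} (hc : Cfg D x) (hy : Five D y) {d : S} (hd : d ∈ D)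
    (h : y * d * y⁻¹ = d) : d = 1 := by
  by_contra h1
  have hdd := hc.e16.inv d hd
  have hmem : ∀ w : S, w ∈ Subgroup.zpowers d ↔ w = 1 ∨ w = d := by
    intro w
    constructor
    · rintro ⟨k, rfl⟩
      rcases Int.even_or_odd' k with ⟨m, rfl | rfl⟩
      · left
        change d ^ (2 * m) = 1
        rw [zpow_mul, show d ^ (2 : ℤ) = 1 by rw [zpow_ofNat, pow_two, hdd], one_zpow]
      · right
        change d ^ (2 * m + 1) = d
        rw [zpow_add, zpow_mul, show d ^ (2 : ℤ) = 1 by rw [zpow_ofNat, pow_two, hdd], one_zpow, one_mul, zpow_one]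
    · rintro (rfl | rfl)
      · exact one_mem _
      · exact Subgroup.mem_zpowers _
  rcases hy.irr (Subgroup.zpowers d) ((Subgroup.zpowers_le).2 hd) (by
    intro a ha
    rcases (hmem a).1 ha with rfl | rfl
    · rw [mul_one, mul_inv_cancel]
      exact one_mem _
    · rw [h]
      exact Subgroup.mem_zpowers _) with h2 | h2
  · apply h1
    rw [← Subgroup.mem_bot, ← h2]
    exact Subgroup.mem_zpowers _
  · have h3 := hc.e16.card
    rw [← h2, Nat.card_zpowers] at h3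
    have h4 : orderOf d ∣ 2 := orderOf_dvd_of_pow_eq_one (by rw [pow_two, hdd])
    have h5 := Nat.le_of_dvd (by norm_num) h4
    omega

theorem pc1 : PC1 := by
  intro F R S _ _ _ _ _ _ σ I X π hF D x y₀ hc hy _ hab
  have hcomm : ∀ a ∈ D, ∀ b ∈ D, a * b = b * a := by
    intro a ha b hb
    have h1 := hc.e16.inv _ (D.mul_mem ha hb)
    have h2 := hc.e16.inv a ha
    have h3 := hc.e16.inv b hb
    calc a * b = a * (a * b * (a * b)) * b := by rw [h1, mul_one]
      _ = (a * a) * (b * a) * (b * b) := by simp only [mul_assoc]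
      _ = b * a := by rw [h2, h3, one_mul, mul_one]
  have hyD : ∀ a : X, π a ∈ D → π (y₀ * a * y₀⁻¹) ∈ D := by
    intro a ha
    rw [map_mul, map_mul, map_inv]
    exact (hy.norm _).2 ha
  -- the preimage of `D`
  let φ : X → X := fun a => a * (y₀ * a * y₀⁻¹)
  have hφ : ∀ a b : X, π a ∈ D → π b ∈ D → φ (a * b) = φ a * φ b := by
    intro a b ha hb
    change a * b * (y₀ * (a * b) * y₀⁻¹) = a * (y₀ * a * y₀⁻¹) * (b * (y₀ * b * y₀⁻¹))
    have h1 := hab b (y₀ * a * y₀⁻¹) hb (hyD a ha)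
    calc a * b * (y₀ * (a * b) * y₀⁻¹) = a * (b * (y₀ * a * y₀⁻¹)) * (y₀ * b * y₀⁻¹) := by group
      _ = a * ((y₀ * a * y₀⁻¹) * b) * (y₀ * b * y₀⁻¹) := by rw [h1]
      _ = _ := by simp only [mul_assoc]
  have hπφ : ∀ a : X, π (φ a) = π a * (π y₀ * π a * (π y₀)⁻¹) := by
    intro a
    change π (a * (y₀ * a * y₀⁻¹)) = _
    rw [map_mul, map_mul, map_mul, map_inv]
  have hφD : ∀ a : X, π a ∈ D → π (φ a) ∈ D := by
    intro a ha
    rw [hπφ]
    exact D.mul_mem ha ((hy.norm _).2 ha)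
  have hφker : ∀ a : X, π a = 1 → φ a = 1 := by
    intro a ha
    change a * (y₀ * a * y₀⁻¹) = 1
    rw [← ker_comm hF ha y₀, mul_assoc a y₀, mul_inv_cancel, mul_one]
    exact ker_sq hF ha
  have hone : φ 1 = 1 := hφker 1 (map_one π)
  let D₀ : Subgroup X :=
    { carrier := {d | ∃ a : X, π a ∈ D ∧ φ a = d}
      one_mem' := ⟨1, by rw [map_one]; exact D.one_mem, hone⟩
      mul_mem' := by
        rintro _ _ ⟨a, ha, rfl⟩ ⟨b, hb, rfl⟩
        exact ⟨a * b, by rw [map_mul]; exact D.mul_mem ha hb, hφ a b ha hb⟩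
      inv_mem' := by
        rintro _ ⟨a, ha, rfl⟩
        have ha' : π a⁻¹ ∈ D := by
          rw [map_inv]
          exact D.inv_mem ha
        refine ⟨a⁻¹, ha', ?_⟩
        have h1 := hφ a⁻¹ a ha' ha
        rw [inv_mul_cancel, hone] at h1
        exact eq_inv_of_mul_eq_one_left h1.symm }
  have hmem : ∀ d : X, d ∈ D₀ ↔ ∃ a : X, π a ∈ D ∧ φ a = d := fun d => Iff.rfl
  -- injectivity on `D`
  have hinj : ∀ a : X, π a ∈ D → π (φ a) = 1 → π a = 1 := by
    intro a ha h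
    apply fix_eq_one hc hy ha
    rw [hπφ] at h
    have h1 := eq_inv_of_mul_eq_one_right h
    rw [h1]
    exact inv_eq_of_mul_eq_one_right (hc.e16.inv _ ha)
  have hfinD : Finite D := Nat.finite_of_card_ne_zero (by rw [hc.e16.card]; norm_num)
  refine ⟨D₀, ⟨?_, ?_, ?_, ?_⟩⟩
  · apply le_antisymm
    · rintro _ ⟨d, ⟨a, ha, rfl⟩, rfl⟩
      exact hφD a ha
    · -- the map `d ↦ d (y d y⁻¹)` on `D`
      let δ : D → D := fun d => ⟨(d : S) * (π y₀ * (d : S) * (π y₀)⁻¹), D.mul_mem d.2 ((hy.norm _).2 d.2)⟩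
      have hδ : Function.Injective δ := by
        intro a b hab'
        have h1 : (a : S) * (π y₀ * (a : S) * (π y₀)⁻¹) = (b : S) * (π y₀ * (b : S) * (π y₀)⁻¹) :=
          congrArg Subtype.val hab'
        obtain ⟨a', ha'⟩ := hF.surj (a : S)
        obtain ⟨b', hb'⟩ := hF.surj (b : S)
        have haD : π a' ∈ D := by rw [ha']; exact a.2
        have hbD : π b' ∈ D := by rw [hb']; exact b.2
        have hbD' : π b'⁻¹ ∈ D := by rw [map_inv]; exact D.inv_mem hbD
        have h2 : π (φ (a' * b'⁻¹)) = 1 := by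
          have h3 := hφ b'⁻¹ b' hbD' hbD
          rw [inv_mul_cancel, hone] at h3
          have h4 : φ b'⁻¹ = (φ b')⁻¹ := eq_inv_of_mul_eq_one_left h3.symm
          rw [hφ a' b'⁻¹ haD hbD', h4, map_mul, map_inv, hπφ, hπφ, ha', hb', h1, mul_inv_cancel]
        have h3 := hinj (a' * b'⁻¹) (by rw [map_mul]; exact D.mul_mem haD hbD') h2
        rw [map_mul, map_inv, ha', hb', mul_inv_eq_one] at h3
        exact Subtype.ext h3
      have hsurj := Finite.surjective_of_injective hδ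
      intro d hd
      obtain ⟨d', hd'⟩ := hsurj ⟨d, hd⟩
      obtain ⟨a, ha⟩ := hF.surj (d' : S)
      refine ⟨φ a, ⟨a, by rw [ha]; exact d'.2, rfl⟩, ?_⟩
      rw [hπφ, ha]
      exact congrArg Subtype.val hd'
  · rintro _ ⟨a, ha, rfl⟩ h
    exact hφker a (hinj a ha h)
  · rintro _ ⟨a, ha, rfl⟩
    have h1 : π (a * a) = 1 := by
      rw [map_mul]
      exact hc.e16.inv _ ha
    rw [← hφ a a ha ha]
    exact hφker _ h1
  · intro d
    rw [hmem, hmem]
    constructor
    · rintro ⟨a, ha, h⟩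
      refine ⟨y₀⁻¹ * a * y₀, ?_, ?_⟩
      · rw [← hy.norm, map_mul, map_mul, map_inv]
        have h2 : π y₀ * ((π y₀)⁻¹ * π a * π y₀) * (π y₀)⁻¹ = π a := by group
        rw [h2]
        exact ha
      · have h2 : φ (y₀⁻¹ * a * y₀) = y₀⁻¹ * φ a * y₀ := by
          change y₀⁻¹ * a * y₀ * (y₀ * (y₀⁻¹ * a * y₀) * y₀⁻¹) = y₀⁻¹ * (a * (y₀ * a * y₀⁻¹)) * y₀
          group
        rw [h2, h]
        group
    · rintro ⟨a, ha, rfl⟩
      refine ⟨y₀ * a * y₀⁻¹, hyD a ha, ?_⟩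
      change y₀ * a * y₀⁻¹ * (y₀ * (y₀ * a * y₀⁻¹) * y₀⁻¹) = y₀ * (a * (y₀ * a * y₀⁻¹)) * y₀⁻¹
      group

end Cfsg.Agent.H390.KS
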