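import Cfsg.Agent.H167.KKL.DefsE8
import Cfsg.Agent.H798.KKL.P1
import Cfsg.Agent.Nodes.TyCox

/-!
# S4577, row `E₆(q)`, `²E₆(q)`, box B1 (helper390): residual involutions and a class of weight `32`

`J = {i : w a_i = -a_i}`. For every subset `J` there is one witness: a certificate `(j, d, r)` with `d` not dividing `r` (`B`),
certificates `(j, 1, r)` with sum `a_i` modulo 2 for every `i ∈ J` (`C`), the three adic obstruction (`N`), or `J = D4` (`D`).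
-/

set_option autoImplicit false
set_option maxRecDepth 100000

namespace Cfsg.Agent.H390.KS

open CoxeterSystem Cfsg Cfsg.Lie Cfsg.Lie.ChevalleyDatum
open Cfsg.Agent.ChevalleyStructure Cfsg.Agent.ChevalleyStructure.Elts Cfsg.Agent.ChevalleyStructure.CoxeterGeom
  Cfsg.Agent.ChevalleyStructure.CoxeterGeomTypes Cfsg.Agent.ChevalleyStructure.NPerm
open Cfsg.Agent.Tits.Roots Cfsg.Agent.Tits.Core Cfsg.Agent.Nodes Cfsg.Agent.Nodes.Reps Cfsg.Agent.Nodes.BNOf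
  Cfsg.Agent.Nodes.RGDChev Cfsg.Agent.Nodes.Bruhat Cfsg.Agent.Nodes.NormalForm
open Cfsg.Agent.H167.KKL

/-- witnesses -/
inductive Wt6
  | B (j : Fin 6) (d : ℤ) (r : List ℤ) (i : Fin 6)
  | C (L : List (List (Fin 6 × List ℤ)))
  | N
  | D

/-- the witnesses of the 64 subsets -/
def tab6 : List Wt6 := [
  .C [], 
  .C [[(2, [1, 0, 0, 0, 0, 0])], [], [], [], [], []], 
  .C [[], [(3, [0, 1, 0, 0, 0, 0])], [], [], [], []], 
  .C [[(2, [1, 0, 0, 0, 0, 0])], [(3, [0, 1, 0, 0, 0, 0])], [], [], [], []], 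
  .C [[], [], [(0, [0, 0, 1, 0, 0, 0])], [], [], []], 
  .B 3 3 [2, 0, 4, 0, 0, 0] 0, 
  .C [[], [(0, [0, 0, 1, 0, 0, 0]), (3, [0, 1, 1, 0, 0, 0])], [(0, [0, 0, 1, 0, 0, 0])], [], [], []], 
  .B 3 3 [2, 3, 4, 0, 0, 0] 0, 
  .C [[], [], [], [(1, [0, 0, 0, 1, 0, 0])], [], []], 
  .C [[(1, [0, 0, 0, 1, 0, 0]), (2, [1, 0, 0, 1, 0, 0])], [], [], [(1, [0, 0, 0, 1, 0, 0])], [], []], 
  .B 2 3 [0, 2, 0, 4, 0, 0] 1, 
  .B 2 3 [3, 2, 0, 4, 0, 0] 1, 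
  .B 0 3 [0, 0, 4, 2, 0, 0] 2, 
  .B 1 2 [1, 0, 2, 3, 0, 0] 0, 
  .B 0 2 [0, 1, 3, 2, 0, 0] 1, 
  .B 4 5 [4, 6, 8, 12, 0, 0] 0, 
  .C [[], [], [], [], [(3, [0, 0, 0, 0, 1, 0])], []], 
  .C [[(2, [1, 0, 0, 0, 0, 0])], [], [], [], [(3, [0, 0, 0, 0, 1, 0])], []], 
  .C [[], [(3, [0, 1, 0, 0, 1, 0]), (5, [0, 0, 0, 0, 1, 0])], [], [], [(5, [0, 0, 0, 0, 1, 0])], []], 
  .C [[(2, [1, 0, 0, 0, 0, 0])], [(3, [0, 1, 0, 0, 1, 0]), (5, [0, 0, 0, 0, 1, 0])], [], [], [(5, [0, 0, 0, 0, 1, 0])], []], 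
  .C [[], [], [(0, [0, 0, 1, 0, 0, 0])], [], [(5, [0, 0, 0, 0, 1, 0])], []], 
  .B 3 3 [2, 0, 4, 0, 3, 0] 0, 
  .C [[], [(0, [0, 0, 1, 0, 0, 0]), (3, [0, 1, 1, 0, 1, 0]), (5, [0, 0, 0, 0, 1, 0])], [(0, [0, 0, 1, 0, 0, 0])], [], [(5, [0, 0, 0, 0, 1, 0])], []], 
  .B 3 3 [2, 3, 4, 0, 3, 0] 0, 
  .B 1 3 [0, 0, 0, 4, 2, 0] 3, 
  .B 1 3 [0, 0, 0, 4, 2, 0] 3, 
  .B 5 2 [0, 1, 0, 2, 3, 0] 1, 
  .B 5 2 [0, 1, 0, 2, 3, 0] 1, 
  .B 0 2 [0, 0, 3, 2, 1, 0] 2, 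
  .B 1 5 [4, 0, 8, 12, 6, 0] 0, 
  .D, 
  .B 5 2 [2, 3, 4, 6, 5, 0] 1, 
  .C [[], [], [], [], [], [(4, [0, 0, 0, 0, 0, 1])]], 
  .C [[(2, [1, 0, 0, 0, 0, 0])], [], [], [], [], [(4, [0, 0, 0, 0, 0, 1])]], 
  .C [[], [(3, [0, 1, 0, 0, 0, 0])], [], [], [], [(4, [0, 0, 0, 0, 0, 1])]], 
  .C [[(2, [1, 0, 0, 0, 0, 0])], [(3, [0, 1, 0, 0, 0, 0])], [], [], [], [(4, [0, 0, 0, 0, 0, 1])]], 
  .C [[], [], [(0, [0, 0, 1, 0, 0, 0])], [], [], [(4, [0, 0, 0, 0, 0, 1])]], 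
  .B 3 3 [2, 0, 4, 0, 0, 0] 0, 
  .C [[], [(0, [0, 0, 1, 0, 0, 0]), (3, [0, 1, 1, 0, 0, 0])], [(0, [0, 0, 1, 0, 0, 0])], [], [], [(4, [0, 0, 0, 0, 0, 1])]], 
  .B 3 3 [2, 3, 4, 0, 0, 0] 0, 
  .C [[], [], [], [(1, [0, 0, 0, 1, 0, 0])], [], [(1, [0, 0, 0, 1, 0, 0]), (4, [0, 0, 0, 1, 0, 1])]], 
  .C [[(1, [0, 0, 0, 1, 0, 0]), (2, [1, 0, 0, 1, 0, 0])], [], [], [(1, [0, 0, 0, 1, 0, 0])], [], [(1, [0, 0, 0, 1, 0, 0]), (4, [0, 0, 0, 1, 0, 1])]], 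
  .B 2 3 [0, 2, 0, 4, 0, 0] 1, 
  .B 2 3 [3, 2, 0, 4, 0, 0] 1, 
  .B 0 3 [0, 0, 4, 2, 0, 0] 2, 
  .B 1 2 [1, 0, 2, 3, 0, 0] 0, 
  .B 0 2 [0, 1, 3, 2, 0, 0] 1, 
  .B 4 5 [4, 6, 8, 12, 0, 5] 0, 
  .B 3 3 [0, 0, 0, 0, 4, 2] 4, 
  .B 3 3 [0, 0, 0, 0, 4, 2] 4, 
  .B 3 3 [0, 3, 0, 0, 4, 2] 4, 
  .B 3 3 [0, 3, 0, 0, 4, 2] 4, 
  .B 3 3 [0, 0, 3, 0, 4, 2] 4, 
  .B 3 3 [2, 0, 4, 0, 4, 2] 0, 
  .B 3 3 [0, 3, 3, 0, 4, 2] 4, 
  .B 3 3 [2, 3, 4, 0, 4, 2] 0, 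
  .B 1 2 [0, 0, 0, 3, 2, 1] 3, 
  .B 1 2 [0, 0, 0, 3, 2, 1] 3, 
  .B 2 5 [0, 6, 0, 12, 8, 4] 1, 
  .B 2 5 [5, 6, 0, 12, 8, 4] 1, 
  .B 0 5 [0, 0, 8, 6, 4, 2] 2, 
  .N, 
  .B 0 2 [0, 3, 5, 6, 4, 2] 1, 
  .N]

/-- the Cartan matrix -/
def AE6 : Fin 6 → Fin 6 → ℤ := ![![2, 0, -1, 0, 0, 0], ![0, 2, 0, -1, 0, 0], ![-1, 0, 2, -1, 0, 0],
  ![0, -1, -1, 2, -1, 0], ![0, 0, 0, -1, 2, -1], ![0, 0, 0, 0, -1, 2]]

theorem AE6_eq : ∀ i j : Fin 6, cartanOf chevE6 6 i j = AE6 i j := by decide +kernel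

/-- vector of a list -/
def lv6 (l : List ℤ) (k : Fin 6) : ℤ := l.getD k 0

/-- certificates -/
def Cert6 (m : ℕ) (j : Fin 6) (d : ℤ) (r : Fin 6 → ℤ) : Prop :=
  (∀ i : Fin 6, m.testBit i = false → r i = 0) ∧ ∀ i : Fin 6, m.testBit i = true →
    AE6 i 0 * r 0 + AE6 i 1 * r 1 + AE6 i 2 * r 2 + AE6 i 3 * r 3 + AE6 i 4 * r 4 + AE6 i 5 * r 5 = -2 * d * AE6 i j

instance decCert6 (m : ℕ) (j : Fin 6) (d : ℤ) (r : Fin 6 → ℤ) : Decidable (Cert6 m j d r) := by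
  unfold Cert6; infer_instance

/-- validity of a witness -/
def Ok6 (m : ℕ) : Wt6 → Prop
  | .B j d r i => Cert6 m j d (lv6 r) ∧ ¬ d ∣ lv6 r i
  | .C L => ∀ i : Fin 6, m.testBit i = true → (∀ x ∈ L.getD i [], Cert6 m x.1 1 (lv6 x.2)) ∧
      ∀ k : Fin 6, ((L.getD i []).map fun x => lv6 x.2 k).sum % 2 = if k = i then 1 else 0
  | .N => m.testBit 0 = true ∧ m.testBit 2 = true ∧ m.testBit 3 = true ∧ m.testBit 4 = true ∧ m.testBit 5 = true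
  | .D => m = 30

instance decOk6 (m : ℕ) (w : Wt6) : Decidable (Ok6 m w) := by cases w <;> (unfold Ok6; infer_instance)

theorem ok6_all : ∀ m < 64, Ok6 m (tab6.getD m .D) := by decide +kernel

theorem bits6 : ∀ b0 b1 b2 b3 b4 b5 : Bool, ∃ m < 64, ∀ i : Fin 6,
    Nat.testBit m i = ![b0, b1, b2, b3, b4, b5] i := by
  intro b0 b1 b2 b3 b4 b5
  refine ⟨b0.toNat + 2 * b1.toNat + 4 * b2.toNat + 8 * b3.toNat + 16 * b4.toNat + 32 * b5.toNat, ?_, ?_⟩ <;>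
    (revert b0 b1 b2 b3 b4 b5; decide +kernel)

theorem exists_mask6 (J : Fin 6 → Bool) : ∃ m < 64, ∀ i : Fin 6, Nat.testBit m i = J i := by
  obtain ⟨m, hm, h⟩ := bits6 (J 0) (J 1) (J 2) (J 3) (J 4) (J 5)
  refine ⟨m, hm, fun i => (h i).trans ?_⟩
  fin_cases i <;> rfl

theorem cert_d0 : Cert6 30 0 1 (lv6 [0, 1, 2, 2, 1, 0]) := by decide +kernel

theorem cert_d5 : Cert6 30 5 1 (lv6 [0, 1, 1, 2, 2, 0]) := by decide +kernel

/-- the count for `J = D4` -/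
theorem count6 : ∀ c0 c1 c3 c5 : ZMod 2,
    ((Finset.range chevE6.nroots).filter fun s =>
      ((vec chevE6 6 s 0 : ℤ) : ZMod 2) * c0 + ((vec chevE6 6 s 1 : ℤ) : ZMod 2) * c1 +
      ((vec chevE6 6 s 2 : ℤ) : ZMod 2) * c1 + ((vec chevE6 6 s 3 : ℤ) : ZMod 2) * c3 +
      ((vec chevE6 6 s 4 : ℤ) : ZMod 2) * c1 + ((vec chevE6 6 s 5 : ℤ) : ZMod 2) * c5 ≠ 0).card = 32 →
    c1 = 0 ∧ c3 = 0 := by decide +kernel

theorem map_eq_sum (f : (Fin 6 → ℤ) →+ ZMod 2) (x : Fin 6 → ℤ) :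
    f x = ((x 0 : ℤ) : ZMod 2) * f (sr 0) + ((x 1 : ℤ) : ZMod 2) * f (sr 1) + ((x 2 : ℤ) : ZMod 2) * f (sr 2) +
      ((x 3 : ℤ) : ZMod 2) * f (sr 3) + ((x 4 : ℤ) : ZMod 2) * f (sr 4) + ((x 5 : ℤ) : ZMod 2) * f (sr 5) := by
  conv_lhs => rw [Cfsg.Agent.H798.KKL.eq_sum_sr x]
  rw [map_sum, Fin.sum_univ_six]
  rw [map_zsmul, map_zsmul, map_zsmul, map_zsmul, map_zsmul, map_zsmul]
  simp only [zsmul_eq_mul]

section

variable {l : ℕ} {M : CoxeterMatrix (Fin l)} {A : Fin l → Fin l → ℤ} (h : IsCartan M A)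

/-- the three-adic invariance -/
theorem mod_three {x : Fin l → ℤ} (hx : ∀ i, (3 : ℤ) ∣ pairing A i x) (w : M.Group) (k : Fin l) :
    (3 : ℤ) ∣ wv h w x k - x k := by
  revert k
  induction w using M.toCoxeterSystem.simple_induction_left with
  | one =>
    intro k
    change (3 : ℤ) ∣ rep M.toCoxeterSystem h 1 x k - x k
    rw [map_one, Module.End.one_apply, sub_self]
    exact dvd_zero _
  | mul_simple_left w i ih =>
    intro k
    have h1 : (3 : ℤ) ∣ pairing A i (wv h w x) := by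
      have h2 : pairing A i (wv h w x) = pairing A i x + pairing A i (wv h w x - x) := by
        rw [← pairing_add]
        congr 1
        abel
      rw [h2]
      refine dvd_add (hx i) ?_
      unfold pairing
      exact Finset.dvd_sum fun k _ => dvd_mul_of_dvd_right (ih k) _
    have h3 : wv h (M.toCoxeterSystem.simple i * w) x = wv h w x - pairing A i (wv h w x) • sr i := by
      change rep M.toCoxeterSystem h _ x = _
      rw [rep_mul_apply, rep_simple_eq]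
    rw [h3, Pi.sub_apply, Pi.smul_apply, smul_eq_mul, sub_right_comm]
    exact dvd_sub (ih k) (dvd_mul_of_dvd_left h1 _)

end

theorem pair3 : ∀ i : Fin 6, (3 : ℤ) ∣ pairing AE6 i ![4, 3, 5, 6, 4, 2] := by decide +kernel

theorem resE6 (hp : IsType chevE6 6 CoxeterMatrix.E₆) {w : CoxeterMatrix.E₆.Group} (hw : Res hp.isCartan w)
    (f : (Fin 6 → ℤ) →+ ZMod 2) (hf : ∀ x, f (wv hp.isCartan w x) = f x)
    (h32 : ((Finset.range chevE6.nroots).filter fun s => f (vec chevE6 6 s) ≠ 0).card = 32) (i : Fin 6)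
    (hi : wv hp.isCartan w (sr i) = -sr i) : f (sr i) = 0 := by
  classical
  have hfin : Finite CoxeterMatrix.E₆.Group := Cfsg.Agent.Nodes.TyCox.finiteE6 CoxeterMatrix.E₆.toCoxeterSystem
  have P1 := Cfsg.Agent.H798.KKL.P1 hp.isCartan hw
  obtain ⟨m, hm, hJ⟩ := exists_mask6 fun i => decide (wv hp.isCartan w (sr i) = -sr i)
  have hJt : ∀ i : Fin 6, Nat.testBit m i = true ↔ wv hp.isCartan w (sr i) = -sr i := fun i => by
    rw [hJ i]; exact decide_eq_true_iff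
  have hJf : ∀ i : Fin 6, Nat.testBit m i = false ↔ wv hp.isCartan w (sr i) ≠ -sr i := fun i => by
    rw [hJ i]; exact decide_eq_false_iff_not
  -- certificates
  have cert : ∀ {j : Fin 6} {d : ℤ} {r : Fin 6 → ℤ}, Cert6 m j d r → d • (wv hp.isCartan w (sr j) - sr j) = r := by
    intro j d r hc
    refine P1 j d r (fun i hi => hc.1 i ((hJf i).2 hi)) fun i hi => ?_
    have h1 := hc.2 i ((hJt i).2 hi)
    rw [pairing, Fin.sum_univ_six]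
    simp only [AE6_eq]
    exact h1
  have cert0 : ∀ {j : Fin 6} {r : Fin 6 → ℤ}, Cert6 m j 1 r → f r = 0 := by
    intro j r hc
    rw [← cert hc, one_smul, map_sub, hf, sub_self]
  have hok := ok6_all m hm
  revert hok
  generalize tab6.getD m .D = W
  intro hok
  cases W with
  | B j d r i =>
    exfalso
    obtain ⟨hc, hd⟩ := hok
    apply hd
    rw [← cert hc]
    exact Dvd.intro _ rfl
  | C L =>
    obtain ⟨h1, h2⟩ := hok i ((hJt i).2 hi)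
    generalize L.getD i [] = T at h1 h2
    have h3 : f (fun k => (T.map fun x => lv6 x.2 k).sum) = 0 := by
      have h4 : ∀ T : List (Fin 6 × List ℤ), (∀ x ∈ T, Cert6 m x.1 1 (lv6 x.2)) →
          f (fun k => (T.map fun x => lv6 x.2 k).sum) = 0 := by
        intro T
        induction T with
        | nil =>
          intro _
          exact map_zero f
        | cons a T ih =>
          intro h
          have h5 : (fun k => ((a :: T).map fun x => lv6 x.2 k).sum) =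
              lv6 a.2 + fun k => (T.map fun x => lv6 x.2 k).sum := by
            funext k
            rw [List.map_cons, List.sum_cons]
            rfl
          rw [h5, map_add, cert0 (h a (List.mem_cons_self ..)), ih fun x hx => h x (List.mem_cons_of_mem _ hx), add_zero]
      exact h4 T h1
    have h4 : (fun k => (T.map fun x => lv6 x.2 k).sum) =
        sr i + ((fun k => (T.map fun x => lv6 x.2 k).sum / 2) + fun k => (T.map fun x => lv6 x.2 k).sum / 2) := by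
      funext k
      have h5 := h2 k
      have h6 : (sr i : Fin 6 → ℤ) k = if k = i then 1 else 0 := by
        by_cases hk : k = i
        · rw [if_pos hk, hk, sr_self]
        · rw [if_neg hk, sr_ne hk]
      rw [Pi.add_apply, Pi.add_apply, h6, ← h5]
      omega
    rw [h4, map_add, map_add, CharTwo.add_self_eq_zero, add_zero] at h3
    exact h3
  | N =>
    exfalso
    obtain ⟨m0, m2, m3, m4, m5⟩ := hok
    have n0 := (hJt 0).1 m0
    have n2 := (hJt 2).1 m2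
    have n3 := (hJt 3).1 m3
    have n4 := (hJt 4).1 m4
    have n5 := (hJt 5).1 m5
    have h1 := mod_three hp.isCartan (x := ![4, 3, 5, 6, 4, 2]) (by
      intro i
      have h2 := pair3 i
      unfold pairing at h2 ⊢
      simp only [AE6_eq]
      exact h2) w 0
    have h2 : wv hp.isCartan w ![4, 3, 5, 6, 4, 2] 0 = 3 * wv hp.isCartan w (sr 1) 0 - 4 := by
      have h3 : wv hp.isCartan w ![4, 3, 5, 6, 4, 2] = -((4 : ℤ) • sr 0) + (3 : ℤ) • wv hp.isCartan w (sr 1) +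
          -((5 : ℤ) • sr 2) + -((6 : ℤ) • sr 3) + -((4 : ℤ) • sr 4) + -((2 : ℤ) • sr 5) := by
        have h4 : (![4, 3, 5, 6, 4, 2] : Fin 6 → ℤ) = (4 : ℤ) • sr 0 + (3 : ℤ) • sr 1 + (5 : ℤ) • sr 2 +
            (6 : ℤ) • sr 3 + (4 : ℤ) • sr 4 + (2 : ℤ) • sr 5 := by
          rw [Cfsg.Agent.H798.KKL.eq_sum_sr ![4, 3, 5, 6, 4, 2], Fin.sum_univ_six]
          rfl
        rw [h4]
        change rep _ _ _ _ = _
        simp only [map_add, map_smul]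
        change (4 : ℤ) • wv hp.isCartan w (sr 0) + (3 : ℤ) • wv hp.isCartan w (sr 1) +
          (5 : ℤ) • wv hp.isCartan w (sr 2) + (6 : ℤ) • wv hp.isCartan w (sr 3) +
          (4 : ℤ) • wv hp.isCartan w (sr 4) + (2 : ℤ) • wv hp.isCartan w (sr 5) = _
        rw [n0, n2, n3, n4, n5]
        simp only [smul_neg]
      rw [h3]
      simp only [Pi.add_apply, Pi.neg_apply, Pi.smul_apply, smul_eq_mul]
      rw [sr_self, sr_ne (show (0 : Fin 6) ≠ 2 by decide), sr_ne (show (0 : Fin 6) ≠ 3 by decide),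
        sr_ne (show (0 : Fin 6) ≠ 4 by decide), sr_ne (show (0 : Fin 6) ≠ 5 by decide)]
      ring
    rw [h2] at h1
    have h5 : (![4, 3, 5, 6, 4, 2] : Fin 6 → ℤ) 0 = 4 := rfl
    rw [h5] at h1
    omega
  | D =>
    have hm30 : m = 30 := hok
    subst hm30
    have h1 := cert0 cert_d0
    have h2 := cert0 cert_d5
    rw [map_eq_sum] at h1 h2
    have e1 : f (sr 1) + f (sr 4) = 0 := by
      have h2' : (2 : ZMod 2) = 0 := by decide
      simpa [lv6, h2'] using h1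
    have e2 : f (sr 1) + f (sr 2) = 0 := by
      have h2' : (2 : ZMod 2) = 0 := by decide
      simpa [lv6, h2'] using h2
    have e1' : f (sr 4) = f (sr 1) := by
      rw [add_comm] at e1
      exact (add_eq_zero_iff_eq_neg.1 e1).trans (CharTwo.neg_eq _)
    have e2' : f (sr 2) = f (sr 1) := by
      rw [add_comm] at e2
      exact (add_eq_zero_iff_eq_neg.1 e2).trans (CharTwo.neg_eq _)
    have h3 := count6 (f (sr 0)) (f (sr 1)) (f (sr 3)) (f (sr 5)) (by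
      rw [← h32]
      congr 1
      apply Finset.filter_congr
      intro s _
      rw [map_eq_sum f (vec chevE6 6 s), e1', e2'])
    obtain ⟨h4, h5⟩ := h3
    have h6 : ∀ i : Fin 6, Nat.testBit 30 i = true → i = 1 ∨ i = 2 ∨ i = 3 ∨ i = 4 := by decide
    rcases h6 i ((hJt i).2 hi) with rfl | rfl | rfl | rfl
    · exact h4
    · rw [e2', h4]
    · exact h5
    · rw [e1', h4]

end Cfsg.Agent.H390.KS
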